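import Mathlib
import Groth.Prelude.Def_W4bk4bump814p2PDiff

set_option autoImplicit false
universe u v

namespace Groth.Agent.PDiffLib

open W4bk4bump814p2

variable {K : Type u} {A : Type v} [CommRing K] [CommRing A] [Algebra K A] (p : ℕ) [Fact p.Prime]

/-- The group generated by the first `i` power differential maps. -/
noncomputable def grp (i : ℕ) : AddSubgroup (Ω[A⁄K]) :=
  AddSubgroup.closure (⋃ j ∈ Finset.range i, Set.range (delta K A p j))

theorem delta_mem_grp {i j : ℕ} (h : j < i) (x : A) : delta K A p j x ∈ grp (K := K) (A := A) p i :=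
  AddSubgroup.subset_closure (Set.mem_biUnion (Finset.mem_range.2 h) ⟨x, rfl⟩)

theorem delta_zero (i : ℕ) : delta K A p i 0 = 0 := by simp [delta]

theorem chain_rule {n : ℕ} (x : Fin n → A) (z : MvPolynomial (Fin n) ℤ) :
    KaehlerDifferential.D K A (MvPolynomial.aeval x z) =
      ∑ k, MvPolynomial.aeval x (MvPolynomial.pderiv k z) • KaehlerDifferential.D K A (x k) := by
  induction z using MvPolynomial.induction_on with
  | C a => simp
  | add a b ha hb => simp only [map_add, ha, hb, add_smul, Finset.sum_add_distrib]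
  | mul_X a m ha =>
    rw [map_mul, Derivation.leibniz, ha, Finset.smul_sum, MvPolynomial.aeval_X]
    simp only [Derivation.leibniz, smul_eq_mul, map_add, map_mul, MvPolynomial.aeval_X, add_smul,
      Finset.sum_add_distrib, mul_smul]
    congr 1
    rw [Finset.sum_eq_single m (fun k _ hk => by simp [MvPolynomial.pderiv_X_of_ne hk.symm])
      (fun h => absurd (Finset.mem_univ _) h)]
    simp

theorem universal_identity (i : ℕ) :
    ∃ S : ℕ → MvPolynomial (Fin 2) ℤ, S 0 = MvPolynomial.X 0 + MvPolynomial.X 1 ∧ ∀ k : Fin 2,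
      ∑ j ∈ Finset.range (i + 1), S j ^ (p ^ (i - j) - 1) * MvPolynomial.pderiv k (S j) =
        MvPolynomial.X 0 ^ (p ^ i - 1) * MvPolynomial.pderiv k (MvPolynomial.X 0) +
          MvPolynomial.X 1 ^ (p ^ i - 1) * MvPolynomial.pderiv k (MvPolynomial.X 1) := by
  let w : WittVector p (MvPolynomial (Fin 2) ℤ) :=
    WittVector.teichmuller p (MvPolynomial.X 0) + WittVector.teichmuller p (MvPolynomial.X 1)
  refine ⟨fun j => w.coeff j, by simp [w, WittVector.add_coeff_zero, WittVector.teichmuller_coeff_zero], fun k => ?_⟩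
  have h : ∑ j ∈ Finset.range (i + 1), (p : MvPolynomial (Fin 2) ℤ) ^ j * w.coeff j ^ p ^ (i - j) =
      MvPolynomial.X 0 ^ p ^ i + MvPolynomial.X 1 ^ p ^ i := by
    rw [← WittVector.ghostComponent_teichmuller (p := p) (MvPolynomial.X 0 : MvPolynomial (Fin 2) ℤ) i,
      ← WittVector.ghostComponent_teichmuller (p := p) (MvPolynomial.X 1 : MvPolynomial (Fin 2) ℤ) i, ← map_add,
      WittVector.ghostComponent_apply, wittPolynomial_eq_sum_C_mul_X_pow, map_sum]
    simp [w]
  have h' := congrArg (MvPolynomial.pderiv k) h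
  refine mul_left_cancel₀ (pow_ne_zero i (Nat.cast_ne_zero.2 (Fact.out : p.Prime).ne_zero) :
    (p : MvPolynomial (Fin 2) ℤ) ^ i ≠ 0) ?_
  rw [Finset.mul_sum]
  simp only [map_sum, map_add, Derivation.leibniz, Derivation.leibniz_pow, Derivation.map_natCast,
    smul_eq_mul, smul_zero, mul_zero, add_zero, zero_add, nsmul_eq_mul] at h'
  refine Eq.trans (Finset.sum_congr rfl fun j hj => ?_) (h'.trans (by push_cast; ring))
  have hj' : j + (i - j) = i := by have := Finset.mem_range.1 hj; omega
  push_cast
  conv_lhs => rw [← hj', pow_add]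
  rw [hj']
  ring

/-- The power differential maps are additive modulo the lower ones. -/
theorem delta_add (i : ℕ) (x y : A) :
    delta K A p i (x + y) - delta K A p i x - delta K A p i y ∈ grp (K := K) (A := A) p i := by
  obtain ⟨S, hS0, hS⟩ := universal_identity p i
  let v : Fin 2 → A := ![x, y]
  let F : MvPolynomial (Fin 2) ℤ → ℕ → Ω[A⁄K] := fun z j => delta K A p j (MvPolynomial.aeval v z)
  have hF : ∀ z j, F z j = ∑ k, MvPolynomial.aeval v (z ^ (p ^ j - 1) * MvPolynomial.pderiv k z) •
      KaehlerDifferential.D K A (v k) := fun z j => by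
    simp only [F, delta, chain_rule, Finset.smul_sum, map_mul, map_pow, mul_smul]
  have e : ∑ j ∈ Finset.range (i + 1), F (S j) (i - j) =
      F (MvPolynomial.X 0) i + F (MvPolynomial.X 1) i := by
    simp only [hF]
    rw [Finset.sum_comm, ← Finset.sum_add_distrib]
    refine Finset.sum_congr rfl fun k _ => ?_
    rw [← Finset.sum_smul, ← add_smul, ← map_sum, hS k, map_add]
  rw [Finset.sum_range_succ', hS0] at e
  simp only [F, map_add, MvPolynomial.aeval_X, Nat.sub_zero, v, Matrix.cons_val_zero, Matrix.cons_val_one] at e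
  rw [show delta K A p i (x + y) - delta K A p i x - delta K A p i y =
    -∑ j ∈ Finset.range i, delta K A p (i - (j + 1)) (MvPolynomial.aeval ![x, y] (S (j + 1))) by
    rw [eq_neg_iff_add_eq_zero, sub_sub, sub_add_eq_add_sub, sub_eq_zero, add_comm, ← e]]
  exact neg_mem (sum_mem fun j hj => delta_mem_grp p (by have := Finset.mem_range.1 hj; omega) _)

theorem grp_mono {i j : ℕ} (h : i ≤ j) : grp (K := K) (A := A) p i ≤ grp p j := by
  refine AddSubgroup.closure_mono fun z hz => ?_
  simp only [Set.mem_iUnion, Finset.mem_range] at hz ⊢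
  obtain ⟨l, hl, hz⟩ := hz
  exact ⟨l, hl.trans_le h, hz⟩

theorem sigma_eq (i : ℕ) : sigma K A p i = (grp (K := K) (A := A) p i : Set (Ω[A⁄K])) := by
  induction i with
  | zero => simp [grp]
  | succ i ih =>
    ext ω
    rw [mem_sigma_succ]
    simp only [ih, SetLike.mem_coe]
    constructor
    · rintro ⟨x, hx⟩
      rw [← sub_add_cancel ω (delta K A p i x)]
      exact add_mem (grp_mono p i.le_succ hx) (delta_mem_grp p (Nat.lt_succ_self i) x)
    · intro hω
      induction hω using AddSubgroup.closure_induction with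
      | mem z hz =>
        simp only [Set.mem_iUnion, Finset.mem_range] at hz
        obtain ⟨l, hl, w, rfl⟩ := hz
        rcases eq_or_lt_of_le (Nat.le_of_lt_succ hl) with rfl | hl
        · exact ⟨w, by rw [sub_self]; exact zero_mem _⟩
        · exact ⟨0, by rw [delta_zero, sub_zero]; exact delta_mem_grp p hl w⟩
      | zero => exact ⟨0, by rw [delta_zero, sub_zero]; exact zero_mem _⟩
      | add a b _ _ ha hb =>
        obtain ⟨x, hx⟩ := ha
        obtain ⟨y, hy⟩ := hb
        refine ⟨x + y, ?_⟩
        rw [show a + b - delta K A p i (x + y) = (a - delta K A p i x) + (b - delta K A p i y) -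
          (delta K A p i (x + y) - delta K A p i x - delta K A p i y) by abel]
        exact sub_mem (add_mem hx hy) (delta_add p i x y)
      | neg a _ ha =>
        obtain ⟨x, hx⟩ := ha
        refine ⟨-x, ?_⟩
        have h := delta_add (K := K) p i x (-x)
        rw [add_neg_cancel, delta_zero] at h
        rw [show -a - delta K A p i (-x) = (0 - delta K A p i x - delta K A p i (-x)) -
          (a - delta K A p i x) by abel]
        exact sub_mem h hx

theorem delta_mul_of_D_eq_zero (i : ℕ) (c x : A) (hc : KaehlerDifferential.D K A c = 0) :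
    delta K A p i (c * x) = c ^ (p ^ i) • delta K A p i x := by
  rw [delta, delta, Derivation.leibniz, hc, smul_zero, add_zero, smul_smul, smul_smul, mul_pow]
  congr 1
  rw [← pow_sub_one_mul (pow_pos (Fact.out : p.Prime).pos i).ne' c]
  ring

theorem pow_smul_mem [CharP K p] (i : ℕ) (x : A) {ω : Ω[A⁄K]} (hω : ω ∈ grp (K := K) (A := A) p i) :
    x ^ (p ^ i) • ω ∈ grp (K := K) (A := A) p i := by
  induction hω using AddSubgroup.closure_induction with
  | mem z hz =>
    simp only [Set.mem_iUnion, Finset.mem_range] at hz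
    obtain ⟨l, hl, w, rfl⟩ := hz
    have h := delta_mul_of_D_eq_zero (K := K) p l (x ^ p ^ (i - l)) w (by
      rw [Derivation.leibniz_pow, ← Nat.cast_smul_eq_nsmul A, Nat.cast_pow,
        show (p : A) = 0 by rw [← map_natCast (algebraMap K A), CharP.cast_eq_zero, map_zero],
        zero_pow (by omega), zero_smul])
    rw [← pow_mul, ← pow_add, Nat.sub_add_cancel hl.le] at h
    rw [← h]
    exact delta_mem_grp p hl _
  | zero => rw [smul_zero]; exact zero_mem _
  | add a b _ _ ha hb => rw [smul_add]; exact add_mem ha hb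
  | neg a _ ha => rw [smul_neg]; exact neg_mem ha

theorem smul_mem {K : Type u} [Field K] [PerfectField K] [CharP K p] [Algebra K A] (i : ℕ) (c : K)
    {ω : Ω[A⁄K]} (hω : ω ∈ grp (K := K) (A := A) p i) : c • ω ∈ grp (K := K) (A := A) p i := by
  haveI : ExpChar K p := .prime Fact.out
  induction hω using AddSubgroup.closure_induction with
  | mem z hz =>
    simp only [Set.mem_iUnion, Finset.mem_range] at hz
    obtain ⟨l, hl, w, rfl⟩ := hz
    obtain ⟨d, rfl⟩ := (iterateFrobeniusEquiv K p l).surjective c
    have h := delta_mul_of_D_eq_zero (K := K) p l (algebraMap K A d) w (Derivation.map_algebraMap _ _)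
    rw [← map_pow, algebraMap_smul, ← iterateFrobeniusEquiv_def] at h
    rw [← h]
    exact delta_mem_grp p hl _
  | zero => rw [smul_zero]; exact zero_mem _
  | add a b _ _ ha hb => rw [smul_add]; exact add_mem ha hb
  | neg a _ ha => rw [smul_neg]; exact neg_mem ha

end Groth.Agent.PDiffLib
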